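import Cfsg.Agent.H0.TC
set_option maxRecDepth 100000
namespace H0.TCL371
open H0
noncomputable def r0 : TC.WTr := (.node (.node (.node (.node (.node (.node (.leaf [0] 0 0 false) (.leaf [7] 7 1 false)) (.leaf [5] 4 0 false)) (.node (.leaf [1] 1 1 false) (.leaf [6] 6 0 false))) (.node (.node (.leaf [2] 1 0 false) (.leaf [4] 4 1 false)) (.node (.leaf [3] 3 0 false) (.leaf [8] 7 0 false)))) (.node (.node (.node (.node (.leaf [4, 2, 0, 2, 7, 7, 5] 35 3 true) (.leaf [2, 3, 1, 4, 3] 30 2 true)) (.leaf [3, 5, 5, 3, 7] 15 1 true)) (.node (.leaf [5, 2, 2, 0, 1, 0, 1, 1, 0] 25 8 false) (.leaf [3, 5, 6, 4, 3] 19 4 false))) (.node (.node (.leaf [0, 1, 5, 0, 4, 8, 8] 35 0 false) (.leaf [8, 3, 4, 4, 3] 15 4 false)) (.node (.leaf [5, 8, 3, 4, 4] 15 3 false) (.leaf [4, 3, 5, 5, 3] 15 0 true))))) (.node (.node (.node (.node (.node (.leaf [6, 0, 6] 28 0 false) (.leaf [8, 2, 8, 2, 2] 31 0 true))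 (.leaf [8, 5, 3, 6, 7, 3, 6] 22 4 true)) (.node (.leaf [3, 1, 7, 3, 5] 30 0 false) (.leaf [0, 7, 0, 7] 29 4 false))) (.node (.node (.leaf [1, 0, 2, 5, 2, 2, 0, 1, 0] 25 5 false) (.leaf [8, 1, 4, 7, 4, 4, 1] 33 1 false)) (.node (.leaf [5, 2, 3, 1, 7] 30 4 false) (.leaf [1, 1, 7, 1, 7] 31 5 false)))) (.node (.node (.node (.node (.leaf [0] 0 0 false) (.leaf [6, 7, 6] 11 3 false)) (.leaf [5] 4 0 false)) (.node (.leaf [8, 2, 2, 8, 8] 31 2 true) (.leaf [6] 6 0 false))) (.node (.node (.leaf [5, 8, 1, 4, 7, 4, 4] 33 0 false) (.leaf [2, 2, 0, 1, 0, 1, 1, 0, 2] 25 9 false)) (.node (.leaf [6, 3, 5, 6, 4] 19 3 false) (.leaf [5, 6, 3, 8, 6, 3, 4] 22 2 false))))))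
noncomputable def r1 : TC.WTr := (.node (.node (.node (.node (.node (.node (.leaf [4, 8, 8, 1, 0, 1, 5] 35 4 false) (.leaf [1, 4, 7, 4, 4, 1, 5] 33 2 false)) (.leaf [1, 0, 2, 2, 0, 2, 0, 1, 1] 25 0 true)) (.node (.leaf [7, 7, 5, 0, 4, 2, 0] 35 7 true) (.leaf [4, 3, 4, 3, 4, 3] 14 0 true))) (.node (.node (.leaf [7, 1, 7, 7, 1] 31 1 false) (.leaf [2, 3, 1, 7, 3] 30 5 false)) (.node (.leaf [1, 7, 3, 5, 2] 30 1 false) (.leaf [1, 7, 7, 1, 1] 31 2 false)))) (.node (.node (.node (.node (.leaf [6, 8, 0, 8] 29 4 true) (.leaf [6, 5, 7, 3, 8, 5] 20 5 false)) (.leaf [3, 6, 3, 5, 6] 19 2 false)) (.node (.leaf [2, 2, 2, 2, 2] 23 0 true) (.leaf [3, 8, 6, 3, 4, 7, 5] 22 4 false))) (.node (.node (.leaf [0, 3, 0, 2, 0] 24 3 false) (.leaf [8, 5, 3, 8, 4, 6] 21 2 false)) (.node (.leaf [5, 3, 5, 3, 5, 6] 14 0 false) (.leaf [4, 7, 3, 8, 4, 6] 20 1 true))))) (.node (.node (.node (.node (.node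 (.leaf [7, 6, 0, 7] 29 2 false) (.leaf [0, 8, 0, 6] 29 1 true)) (.leaf [6, 8, 1, 3, 2, 3, 6] 32 2 true)) (.node (.leaf [3, 6, 4, 6, 8, 1, 3] 32 7 true) (.leaf [4, 3, 6, 3, 5] 19 1 false))) (.node (.node (.leaf [7, 5, 2, 5, 3, 4, 3] 34 0 false) (.leaf [3, 8, 4, 6, 5, 8] 21 4 false)) (.node (.leaf [0, 2, 0, 1, 0] 24 5 false) (.leaf [6, 8, 6] 11 1 false)))) (.node (.node (.node (.node (.leaf [0] 0 0 false) (.leaf [5, 3, 6, 7, 3, 6, 4] 22 5 true)) (.leaf [5] 4 0 false)) (.node (.leaf [1] 1 1 false) (.leaf [6] 6 0 false))) (.node (.node (.leaf [3, 2, 7, 6, 5, 6, 3] 32 0 false) (.leaf [3, 4, 1, 4, 8, 2, 3] 34 1 true)) (.node (.leaf [3] 3 0 false) (.leaf [8] 7 0 false))))))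
noncomputable def r2 : TC.WTr := (.node (.node (.node (.node (.node (.node (.leaf [1, 0, 3, 0, 2] 24 2 false) (.leaf [2, 3, 5, 3, 4, 1, 4] 34 6 true)) (.leaf [4, 3, 5, 8, 3] 15 1 false)) (.node (.leaf [2, 8, 8, 2, 8] 31 4 true) (.leaf [0, 6, 0] 28 1 false))) (.node (.node (.leaf [5, 0, 4, 8, 8, 1, 0] 35 2 false) (.leaf [3, 0, 5, 6, 5, 8, 1, 0] 36 6 true)) (.node (.leaf [2, 7, 6, 5, 6, 3, 1] 32 1 false) (.leaf [0, 7, 6, 0] 29 1 false)))) (.node (.node (.node (.node (.leaf [2, 7, 7, 5, 0, 4, 2] 35 6 true) (.leaf [4, 6, 7, 4, 7, 3] 20 5 true)) (.leaf [1, 4, 8, 2, 3, 5, 3] 34 3 true)) (.node (.leaf [0, 2, 0, 1, 1, 4, 1, 0, 2] 25 4 true) (.leaf [8, 6, 7] 11 2 false))) (.node (.node (.leaf [7, 3, 5, 2, 3] 30 2 false) (.leaf [7, 3, 4, 7, 4, 6] 21 6 true)) (.node (.leaf [4, 4, 3, 5, 8] 15 0 false) (.leaf [3, 4, 7, 4, 6, 5] 21 0 true))))) (.node (.node (.node (.node (.node (.leaf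 [2, 7, 4, 6, 4, 0, 3, 4] 36 3 false) (.leaf [1, 0, 1, 5, 0, 4, 8] 35 7 false)) (.leaf [2, 0, 2, 7, 7, 5, 0] 35 4 true)) (.node (.leaf [5, 3, 4, 3, 1, 7, 5] 34 3 false) (.leaf [5, 8, 1, 0, 5, 3, 0, 5] 36 1 true))) (.node (.node (.leaf [7, 7, 1, 1, 7] 31 3 false) (.leaf [2, 5, 3, 4, 3, 1, 7] 34 2 false)) (.node (.leaf [4, 0, 2, 7, 4, 6, 4, 0] 36 1 false) (.leaf [7, 7, 7, 7, 7] 9 0 false)))) (.node (.node (.node (.node (.leaf [0] 0 0 false) (.leaf [2, 8, 2, 2, 8] 31 1 true)) (.leaf [5] 4 0 false)) (.node (.leaf [0, 2, 7, 7, 5, 0, 4] 35 5 true) (.leaf [6] 6 0 false))) (.node (.node (.leaf [1, 7, 1, 7, 7] 31 0 false) (.leaf [3, 7, 4, 3, 5] 15 4 true)) (.node (.leaf [1, 4, 3, 8, 2] 30 4 true) (.leaf [8] 7 0 false))))))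
noncomputable def r3 : TC.WTr := (.node (.node (.node (.node (.node (.node (.leaf [2, 0, 1, 0, 3] 24 0 false) (.leaf [3, 4, 4, 3, 5] 15 5 false)) (.leaf [6, 7, 4, 7, 3, 8] 20 6 true)) (.node (.leaf [0, 1, 0, 3, 0] 24 1 false) (.leaf [3, 5, 3, 5, 3, 5] 14 6 false))) (.node (.node (.leaf [4, 7, 4, 4, 1, 5, 8] 33 3 false) (.leaf [3, 5, 3, 5, 6, 3] 14 1 false)) (.node (.leaf [4, 3, 1, 7, 5, 2, 5] 34 5 false) (.leaf [6, 5, 6, 3, 1, 3, 2] 32 3 false)))) (.node (.node (.node (.node (.leaf [0] 0 0 false) (.leaf [0, 6, 8, 0] 29 3 true)) (.leaf [7, 3, 8, 4, 6, 7] 20 2 true)) (.node (.leaf [3, 1, 4, 3, 8] 30 3 true) (.leaf [7, 4, 7, 3, 8, 4] 20 0 true))) (.node (.node (.leaf [3, 2, 3, 6, 4, 6, 8] 32 5 true) (.leaf [6, 3, 8, 6, 3, 4, 7] 22 3 false)) (.node (.leaf [5, 6, 4, 3, 6] 19 5 false) (.leaf [7, 5, 0, 4, 2, 0, 2] 35 0 true))))) (.node (.node (.node (.node (.node (.leaf [8, 0,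 6, 8] 29 2 true) (.leaf [5, 2, 7, 4, 2, 5, 5] 33 2 true)) (.leaf [3, 4, 3, 6, 4, 3] 14 3 true)) (.node (.leaf [3, 5, 3, 4, 1, 4, 8] 34 7 true) (.leaf [7, 6, 8] 11 0 false))) (.node (.node (.leaf [1, 1, 1, 1, 1] 23 0 false) (.leaf [8, 6, 5, 7, 3, 8] 20 4 false)) (.node (.leaf [7, 4, 3, 5, 5] 15 5 true) (.leaf [3, 8, 5, 8, 6, 5] 20 1 false)))) (.node (.node (.node (.node (.leaf [0] 0 0 false) (.leaf [8, 8, 8, 8, 8] 9 0 true)) (.leaf [5] 4 0 false)) (.node (.leaf [1] 1 1 false) (.leaf [6] 6 0 false))) (.node (.node (.leaf [2] 1 0 false) (.leaf [7, 3, 8, 5, 8, 6] 20 0 false)) (.node (.leaf [3] 3 0 false) (.leaf [8] 7 0 false))))))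
noncomputable def tS : Tr := (.leaf (nat_lit 0xfff0cb88114f6f78f4572a0e6158f7fff0c787413879c75e95f8039d76f0fff67f0c14be5e28816ef4f85665e2fff0bc80d12d92f7d78bb92b86f785fff8110ba1f38747288f47148f432efff59a72c6e00ba61d5af6015cd61dfff8bf84b5a98bd58b51b7d70ba413fff8040b96b852040f79c4b66a76b0fff0b978f6b181473799e79e811721fff5a516a0b867f4e75995197672b6fff84c5de54f59e07d68265760274cfff76a10667f6dc7de76860a07d10cfff2b32211cd59a58971f67c39407bfff07962d43b1375216bd5946012e6fff25b3cb0793c74b352a2b25891cafff5244eb6f876b07819a59e53d736fff6386c564c63b6be7350785b9647fff1440775057a65dd5245ad5d8478fff0775624b559955d1a05d05484edfff8be8485240778bb3ce71f6bb59cfff1361171032014ea07735b84e459fff59d5e24684e65db56959964c077fff63b0766f74b55d55de5c85d2767fff0765241864b43ce35d3bf59d6f8fff7d711607645817a7638bc75c6d9fff12a1730fe47007647a0f750037bfff4794a04f559d4f12b061a07652dfff4f05684f45514f05660765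6a55cfff5306096694f960f4790ed600076fff1b62ef07552b4384b65dd3cb0fafff11544542f56a0754b364a5e2158fff1c860f7320755701e55cb6094befff32a3242b65364370756f8136160fff1fd07427f3a04ba4143262ee306fff07415f1843252ed3a02b02af7dcfff2ef11407435572c3943e376b79dfff41930348a57107457139a333194fff11316e19a0741121e81112912eafff11010f6ab5db5240745694fe6affff2af0e510e47a4462f507427d19ffff19d2785a54074190e92ed11d074fff0eb2aa2ac23b2aa15e31b03b33afff6821912230d53241900d413303bfff0ab18a27611b03a12431c2e41d3fff0aa12615303a2761232023560d3fff2e60ab18a27611b15a03a1cb221fff1cd0d20d10ae25312760f0af03afff47d2104ba0d00391cd52d0cf1a1fff0ce0cd4790390cc0cb0e94100cafff0c90c80c70c60e90390c50c40c3fff1282460c20c10c00bf15f0390adfff0be0bd0bc0bb0ba0b90390b80b7fff0ea0ec1930ea0ec07307e00007dfff15c0eb15a07c07b07200007a079fff0a9071071078077076075074000fff00000000000000000003b03a039))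
noncomputable def tJ : Tr := (.leaf (nat_lit 0x402854ad040154805ca95a08d498e07d4e71a56b3a0170a40b201a6381b63bc60638e50398bb000060020000600355649c0da1ce302d674028148000000c6030d35296051080000cd89c00404005818062a2100161084a6406c8044895a000298c002a2a52c002100a4801539c001000020000a9c27002c00012001d00b05294100031400002c04240418100420f6000000000100002058e005007000a002014000a0214c030000a00000000401c06050e40002000000008140080300c0005105000085012518286000d2010050108001ca09000111409202400180018000000120006701664318002810099000100020180604c00500002000003a6010445000079800040460000000ccc9208001000504c4000005010060126101060100419000000400194009100200c13180602802014c04000020004018073100000000100001990030001100c00280000440000003000000022000020000000001108800000000440008000008220440200c0200031000000042000000880108421080000))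
noncomputable def tQ : Tr := (.leaf (nat_lit 0x0))
noncomputable def tR : TC.WTr := (.node (.node r0 r1) (.node r2 r3))
def hl : List ℕ := [3, 4, 5, 5, 4, 6, 7, 8, 8, 7]
def B : List (List ℕ) := [[0, 0], [1, 2], [2, 1], [3, 3], [4, 5], [5, 4], [6, 6], [7, 8], [8, 7], [7, 7, 7, 7, 7, 7], [6, 7, 6, 7, 6, 7, 6, 7, 6, 7, 6, 7], [6, 7, 6, 8], [6, 8, 6, 8, 6, 8, 6, 8, 6, 8, 6, 8], [4, 4, 4, 4, 4, 4], [3, 5, 3, 5, 3, 5, 6], [3, 4, 4, 3, 5, 8], [3, 4, 3, 4, 3, 4, 3, 4, 3, 4, 3, 4], [3, 4, 3, 5, 3, 4, 3, 5, 3, 4, 3, 5, 3, 4, 3, 5, 3, 4, 3, 5, 3, 4, 3, 5, 3, 4, 3, 5], [3, 5, 3, 5, 3, 5, 3, 5, 3, 5, 3, 5], [5, 6, 4, 3, 6, 3], [5, 7, 3, 8, 5, 8, 6], [4, 6, 5, 8, 5, 3, 8], [3, 4, 7, 5, 6, 3, 8, 6], [1, 1, 1, 1, 1, 1], [0, 2, 0, 1, 0, 3], [2, 2, 0, 1, 0, 1, 1, 0, 2, 5], [0, 1, 0, 1, 0, 1, 0, 1, 0, 1, 0, 1, 0, 1, 0, 1], [0, 2, 0, 2, 0, 2, 0, 2, 0, 2, 0, 2, 0, 2, 0, 2], [0, 6, 0, 6], [0,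 7, 0, 7, 6], [2, 3, 1, 7, 3, 5], [1, 1, 7, 1, 7, 7], [1, 3, 2, 7, 6, 5, 6, 3], [1, 5, 8, 1, 4, 7, 4, 4], [1, 7, 5, 2, 5, 3, 4, 3], [1, 0, 1, 5, 0, 4, 8, 8], [0, 3, 4, 0, 2, 7, 4, 6, 4]]
def subs : List (List ℕ) := [[3], [4], [5], [6], [7], [8]]
def ex : List (List ℕ) := []
def inv (x : ℕ) : ℕ := [0, 2, 1, 3, 5, 4, 6, 8, 7].getD x 0
noncomputable def rS : ℕ → ℕ := rowOf tS (nat_lit 7) (nat_lit 127) (nat_lit 120) (nat_lit 1329227995784915872903807060280344575)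
noncomputable def rJ : ℕ → ℕ := rowOf tJ (nat_lit 7) (nat_lit 127) (nat_lit 55) (nat_lit 36028797018963967)
noncomputable def C : TC.Cfg where
  S := look rS (nat_lit 12) (nat_lit 4095)
  J := look rJ (nat_lit 5) (nat_lit 31)
  Q := lookQ tQ (nat_lit 7) (nat_lit 1) (nat_lit 1)
  R := tR.get
  hl := fun x => hl.contains x
  n := (nat_lit 56)
  M := (nat_lit 56)
  top := (nat_lit 2576)
  nl := (nat_lit 9)
  need := (nat_lit 9)
  nr := (nat_lit 16)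
theorem k0 : TC.chkRange C 0 1 = true := by decide +kernel
theorem rows0 : ∀ c < (0 + 1) * 64, c < C.M → TC.chkRow C c = true :=
  TC.rows_step (TC.rows_zero C) k0
theorem main {G : Type*} [Group G] (g : ℕ → G) (hB : ∀ r ∈ B, ev g r = 1) (H : Subgroup G)
    (hH : ∀ w ∈ subs, ev g w ∈ H) :
    H.relIndex (Subgroup.closure (g '' {x | x < 9})) ≠ 0 ∧
      H.relIndex (Subgroup.closure (g '' {x | x < 9})) ≤ 56 :=
  TC.index_le C B subs ex inv hl tR.hint rfl (by decide +kernel) (by decide +kernel)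
    (TC.rows_done rows0 (by decide +kernel)) g hB H hH
end H0.TCL371
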